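import Cfsg.Agent.H88.Walter.Data
import Cfsg.Agent.H88.Walter.Comp
import Cfsg.Agent.H21.Walter.Balance
import Cfsg.Prelude.Def_Quasithin
import Cfsg.Prelude.Def_TwoFusion

/-!
# Strongly closed abelian 2-subgroups: definitions and the interface

The plan is `notes/helper77_WA_plan.md`.  A minimal counterexample is a `Cfg S A`.  For `b ∈ A#` a
component `L` of `C(b)` modulo its core is met if the image of `A` does not centralise it; then
`vp A b L` is its piece and `qp A b L` the kernel of the action of `A` on it.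
-/

set_option autoImplicit false

namespace Cfsg.Agent.H77.WA

open Subgroup Cfsg.Agent
open Cfsg.Agent.H88.Walter (Bb pre cen vp qp)
open Cfsg.Agent.H21.Walter (coreImage OddTrivialAt)
open Cfsg.Agent.H10.Walter (AbSyl Shape)

universe u

/-- There is a strongly embedded subgroup. -/
def HasSE (X : Type u) [Group X] : Prop :=
  ∃ H : Subgroup X, Cfsg.IsStronglyEmbedded H

/-- The theorem for simple groups of order below `n`. -/
def Small (n : ℕ) : Prop :=
  ∀ (X : Type u) [Group X] [Finite X], Nat.card X < n → IsSimpleGroup X → ¬ IsMulCommutative X →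
    ∀ (S : Sylow 2 X) (B : Subgroup X), B ≠ ⊥ → IsMulCommutative ↥B →
      Cfsg.IsStronglyClosed B (S : Subgroup X) → AbSyl X ∨ HasSE X

/-- A minimal counterexample, with `A` elementary and irreducible under its normaliser. -/
structure Cfg {G : Type u} [Group G] [Finite G] (S : Sylow 2 G) (A : Subgroup G) : Prop where
  simple : IsSimpleGroup G
  nonab : ¬ IsMulCommutative G
  elem : Cfsg.IsElementaryAbelian 2 A
  ne_bot : A ≠ ⊥
  closed : Cfsg.IsStronglyClosed A (S : Subgroup G)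
  irred : ∀ B : Subgroup G, B ≤ A → normalizer (A : Set G) ≤ normalizer (B : Set G) → B = ⊥ ∨ B = A
  sylow_nonab : ¬ IsMulCommutative ↥(S : Subgroup G)
  noSE : ¬ HasSE G
  small : Small.{u} (Nat.card G)

/-- The quotient of a component by its centre. -/
abbrev Quot {X : Type u} [Group X] (L : Subgroup X) : Type u :=
  ↥L ⧸ center ↥L

/-- A component not centralised by `A`. -/
def Met {X : Type u} [Group X] (A L : Subgroup X) : Prop :=
  Cfsg.IsComponent L ∧ ¬ A ≤ centralizer (L : Set X)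

/-- A met component of `C(b)` modulo its core. -/
def CMet {G : Type u} [Group G] (A : Subgroup G) (b : G) (L : Subgroup (Bb b)) : Prop :=
  Met (coreImage b A) L

/-! ### The simple types -/

/-- Abelian type. -/
def AType (K : Type u) [Group K] : Prop :=
  IsSimpleGroup K ∧ ¬ IsMulCommutative K ∧ AbSyl K ∧ Shape K

/-- Bender groups with non-abelian Sylow 2-subgroups. -/
def NType (K : Type u) [Group K] : Prop :=
  IsSimpleGroup K ∧ ¬ IsMulCommutative K ∧ Cfsg.IsBenderGroup K ∧ ¬ AbSyl K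

/-- An element of `N(T)` whose powers are transitive on `V#` and generate on `V` a group invariant
under the automorphisms stabilising `T`. -/
def HasSinger {K : Type u} [Group K] (T V : Subgroup K) : Prop :=
  ∃ y ∈ normalizer (T : Set K), (∀ v ∈ V, y * v * y⁻¹ ∈ V) ∧
    (∀ v ∈ V, ∀ w ∈ V, v ≠ 1 → w ≠ 1 → ∃ k : ℕ, y ^ k * v * (y ^ k)⁻¹ = w) ∧
    ∀ φ : MulAut K, (∀ t ∈ T, φ t ∈ T) →
      ∃ k : ℕ, ∀ v ∈ V, φ y * v * (φ y)⁻¹ = y ^ k * v * (y ^ k)⁻¹

/-- What is used about a group of abelian type. -/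
structure AData {K : Type u} [Group K] (T : Subgroup K) : Prop where
  piece : H88.Walter.GoodPiece T
  singer : HasSinger T T
  inner : ∀ φ : MulAut K, (∃ j : ℕ, φ ^ 2 ^ j = 1) → (∀ x ∈ T, φ x = x) →
    ∃ t ∈ T, φ = MulAut.conj t
  soluble_or_eight : ∀ x ∈ T, x ≠ 1 →
    ¬ Group.IsSolvable ↥(centralizer ({x} : Set K)) → Nat.card T = 8

/-- What is used about a group of non-abelian type, `V` the involutions of its Sylow 2-subgroup. -/
structure NData {K : Type u} [Group K] (T V : Subgroup K) : Prop where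
  mem_iff : ∀ x : K, x ∈ V ↔ x ∈ T ∧ x * x = 1
  four : 4 ≤ Nat.card V
  central : V ≤ centralizer (T : Set K)
  comm : ⁅T, T⁆ = V
  sq_mem : ∀ t ∈ T, t * t ∈ V
  sq_onto : ∀ v ∈ V, ∃ t ∈ T, t * t = v
  singer : HasSinger T V
  irred : ∀ D : Subgroup K, V ≤ D → D ≤ T →
    normalizer (T : Set K) ≤ normalizer (D : Set K) → D = V ∨ D = T
  normal_sub : ∀ D : Subgroup K, D ≤ T → T ≤ normalizer (D : Set K) → D ≤ V ∨ V ≤ D
  odd_trivial : ∀ x ∈ V, x ≠ 1 → OddTrivialAt x
  soluble : ∀ x : K, orderOf x = 2 → Group.IsSolvable ↥(centralizer ({x} : Set K))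
  inner : ∀ φ : MulAut K, (∃ j : ℕ, φ ^ 2 ^ j = 1) → (∀ v ∈ V, φ v = v) →
    (∀ t ∈ T, φ t * t⁻¹ ∈ V) → ∃ t ∈ T, φ = MulAut.conj t
  small_comm : ∀ (P : Subgroup (MulAut K)) (H : Subgroup K), IsPGroup 2 P → H ≤ V → H ≠ V →
    (∀ φ ∈ P, ∀ v ∈ V, φ v = v) → (∀ φ ∈ P, ∀ t ∈ T, φ t * t⁻¹ ∈ H) → IsMulCommutative ↥P
  rigid : ∀ φ : MulAut K, (∃ j : ℕ, φ ^ 2 ^ j = 1) → (∀ v ∈ V, φ v = v) → ∀ v ∈ V, v ≠ 1 →
    ∀ y : K, Commute y v → Odd (orderOf y) → y ≠ 1 → φ y = y → ∀ t ∈ T, φ t * t⁻¹ ∈ V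
  notwist : (∃ y ∈ normalizer (T : Set K), Odd (orderOf y) ∧ (∀ v ∈ V, Commute y v) ∧
      ⁅T, zpowers y⁆ ⊔ V = T) ∨ ∀ k : ℕ, Nat.card V ≠ k ^ 2

/-- The facts about the simple types, and the covering statement. -/
structure TypeFacts : Prop where
  ab : ∀ (K : Type u) [Group K] [Finite K], AType K → ∀ T : Sylow 2 K, AData (T : Subgroup K)
  nab : ∀ (K : Type u) [Group K] [Finite K], NType K → ∀ T : Sylow 2 K,
    ∃ V : Subgroup K, NData (T : Subgroup K) V
  cover : ∀ (L : Type u) [Group L] [Finite L], Cfsg.IsQuasisimple L → Cfsg.oddCore L = ⊥ →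
    NType (L ⧸ center L) → ∀ (T : Sylow 2 L) (B : Subgroup L), B ≤ (T : Subgroup L) →
      Cfsg.IsElementaryAbelian 2 B → (T : Subgroup L) ≤ centralizer (B : Set L) →
      (∀ t ∈ (T : Subgroup L), t * t ∈ center L → t ∈ B ⊔ center L) → center L = ⊥

/-- A 2-group of automorphisms of an elementary abelian group normalising a transitive cyclic
group is cyclic, and its involution fixes a subgroup of square-root order. -/
def SingerFacts : Prop :=
  ∀ (V : Type u) [CommGroup V] [Finite V], (∀ v : V, v * v = 1) → ∀ c : MulAut V,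
    (∀ v w : V, v ≠ 1 → w ≠ 1 → ∃ k : ℕ, (c ^ k) v = w) →
    ∀ P : Subgroup (MulAut V), IsPGroup 2 P →
      P ≤ normalizer (zpowers c : Set (MulAut V)) →
      IsCyclic P ∧ ∀ t ∈ P, t ≠ 1 → t * t = 1 → {v : V | t v = v}.ncard ^ 2 = Nat.card V

/-! ### The structure of a core-free group -/

/-- The met components of a core-free group with a strongly closed `A`. -/
structure Struct {X : Type u} [Group X] [Finite X] (A : Subgroup X) : Prop where
  fix : ∀ L : Subgroup X, Cfsg.IsComponent L → A ≤ normalizer (L : Set X)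
  type : ∀ L, Met A L → AType (Quot L) ∨ NType (Quot L)
  center_bot : ∀ L, Met A L → AbSyl (Quot L) → center ↥L = ⊥
  image : ∀ L, Met A L → ∀ T : Sylow 2 ↥L, A.subgroupOf L ≤ (T : Subgroup ↥L) →
    ∀ t ∈ (T : Subgroup ↥L), (t * t ∈ center ↥L ↔ t ∈ A.subgroupOf L ⊔ center ↥L)
  split : ∀ L, Met A L → A ≤ A ⊓ L ⊔ A ⊓ centralizer (L : Set X)
  four : ∀ L, Met A L → 4 * Nat.card ↥(A ⊓ centralizer (L : Set X)) ≤ Nat.card A
  met_conj : ∀ L, Met A L → ∀ x : X, Met A (L.map (MulAut.conj x).toMonoidHom)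
  normal : (A ⊔ ⨆ L : {L : Subgroup X // Met A L}, (L : Subgroup X)).Normal
  two_part : A ⊓ Cfsg.pCore 2 X = A ⊓ ⨅ L : {L : Subgroup X // Met A L},
    centralizer ((L : Subgroup X) : Set X)
  two_part_normal : (A ⊓ Cfsg.pCore 2 X).Normal

/-- The structure statement. -/
def StructFacts : Prop :=
  ∀ (X : Type u) [Group X] [Finite X] (S : Sylow 2 X) (A : Subgroup X),
    Cfsg.oddCore X = ⊥ → Cfsg.IsElementaryAbelian 2 A →
    Cfsg.IsStronglyClosed A (S : Subgroup X) → Small.{u} (Nat.card X + 1) → Struct A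

/-- The structure of `C(x)` modulo its core, for an involution `x` of `C(A)` or an element of `A`. -/
def BarStruct : Prop :=
  ∀ (G : Type u) [Group G] [Finite G] (S : Sylow 2 G) (A : Subgroup G), Cfg S A →
    ∀ x : G, x ∈ centralizer (A : Set G) → orderOf x = 2 → Struct (coreImage x A)

/-- `N(A)` permutes the met components. -/
def ConjFacts : Prop :=
  ∀ (G : Type u) [Group G] [Finite G] (A : Subgroup G), ∀ n ∈ normalizer (A : Set G),
    ∀ b : G, ∀ L : Subgroup (Bb b), CMet A b L →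
      ∃ L' : Subgroup (Bb (n * b * n⁻¹)), CMet A (n * b * n⁻¹) L' ∧
        vp A (n * b * n⁻¹) L' = (vp A b L).map (MulAut.conj n).toMonoidHom ∧
        qp A (n * b * n⁻¹) L' = (qp A b L).map (MulAut.conj n).toMonoidHom ∧
        pre (n * b * n⁻¹) L' = (pre b L).map (MulAut.conj n).toMonoidHom ∧
        Nonempty (Quot L' ≃* Quot L)

/-! ### Linking the centralisers -/

/-- The last term of the derived series. -/
def perfRes {G : Type u} [Group G] (H : Subgroup G) : Subgroup G :=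
  ⨅ n : ℕ, (derivedSeries ↥H n).map H.subtype

/-- A met component of `C(b)` centralised by the involution `x` passes into one of `C(x)`. -/
def LinkFacts : Prop :=
  ∀ (G : Type u) [Group G] [Finite G] (S : Sylow 2 G) (A : Subgroup G), Cfg S A →
    ∀ b x : G, b ∈ centralizer (A : Set G) → orderOf b = 2 → x ∈ centralizer (A : Set G) →
    orderOf x = 2 → ∀ L : Subgroup (Bb b), CMet A b L → x ∈ cen b L →
      ∃ J : Subgroup (Bb x), CMet A x J ∧ vp A b L ≤ vp A x J ∧ qp A x J ≤ qp A b L ∧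
        perfRes (centralizer ({x} : Set G) ⊓ pre b L) ≤ pre x J ∧
        centralizer ({b} : Set G) ⊓ cen x J ≤ cen b L ∧
        (b ∈ cen x J → qp A x J = qp A b L) ∧
        (b ∈ A → ¬ AbSyl (Quot L) → b ∈ cen x J ∧ ¬ AbSyl (Quot J))

/-! ### The configuration after the twist step -/

section Global

variable {G : Type u} [Group G]

/-- Every 2-element of `N(A)` over the component centralises `A`. -/
def Untwisted (A : Subgroup G) (b : G) (L : Subgroup (Bb b)) : Prop :=
  ∀ t ∈ pre b L ⊓ normalizer (A : Set G), (∃ k : ℕ, t ^ 2 ^ k = 1) → t ∈ centralizer (A : Set G)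

/-- All met components are simple and untwisted. -/
def Clean (A : Subgroup G) : Prop :=
  ∀ b ∈ A, b ≠ 1 → ∀ L : Subgroup (Bb b), CMet A b L →
    center ↥L = ⊥ ∧ Untwisted A b L ∧ vp A b L ⊔ qp A b L = A ∧ vp A b L ⊓ qp A b L = ⊥

/-- A met component with a piece of the largest order. -/
def Top (A : Subgroup G) (b : G) (L : Subgroup (Bb b)) : Prop :=
  b ∈ A ∧ b ≠ 1 ∧ CMet A b L ∧ ∀ b' ∈ A, b' ≠ 1 → ∀ L' : Subgroup (Bb b'), CMet A b' L' →
    Nat.card ↥(vp A b' L') ≤ Nat.card ↥(vp A b L)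

/-- The sum of the other blocks. -/
def others (Ps : Set (Subgroup G)) (P : Subgroup G) : Subgroup G :=
  sSup (Ps \ {P})

/-- A decomposition of `A` into at least three blocks. -/
structure Decomp (A : Subgroup G) (Ps : Set (Subgroup G)) : Prop where
  three : ∀ P ∈ Ps, ∀ Q ∈ Ps, ∃ R ∈ Ps, R ≠ P ∧ R ≠ Q
  nonempty : Ps.Nonempty
  four : ∀ P ∈ Ps, 4 ≤ Nat.card P
  sup : sSup Ps = A
  indep : ∀ P ∈ Ps, P ⊓ others Ps P = ⊥
  conj : ∀ n ∈ normalizer (A : Set G), ∀ P ∈ Ps, P.map (MulAut.conj n).toMonoidHom ∈ Ps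
  met : ∀ b ∈ A, b ≠ 1 → ∀ L : Subgroup (Bb b), CMet A b L →
    ∃ P ∈ Ps, vp A b L ≤ P ∧ others Ps P ≤ qp A b L
  full : ∀ P ∈ Ps, ∀ r ∈ others Ps P, r ≠ 1 →
    ∃ L : Subgroup (Bb r), CMet A r L ∧ vp A r L = P ∧ qp A r L = others Ps P

/-- The kernels of the top components form a spread, and `S` centralises `A`. -/
structure SmallTop [Finite G] (S : Sylow 2 G) (A : Subgroup G) : Prop where
  cent : (S : Subgroup G) ≤ centralizer (A : Set G)
  small : ∀ b L, Top A b L → Nat.card A ≤ Nat.card ↥(vp A b L) ^ 2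
  exists_top : ∀ a ∈ A, a ≠ 1 → ∃ L : Subgroup (Bb a), Top A a L
  unique : ∀ a, ∀ L L' : Subgroup (Bb a), Top A a L → Top A a L' → L = L'
  same : ∀ b L, Top A b L → ∀ a ∈ qp A b L, ∀ L' : Subgroup (Bb a), Top A a L' →
    vp A a L' = vp A b L ∧ qp A a L' = qp A b L

end Global

/-- The twist step. -/
def TwistStep : Prop :=
  ∀ (G : Type u) [Group G] [Finite G] (S : Sylow 2 G) (A : Subgroup G), Cfg S A → Clean A

/-- Either three or more blocks, or a spread of top kernels. -/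
def TopStep : Prop :=
  ∀ (G : Type u) [Group G] [Finite G] (S : Sylow 2 G) (A : Subgroup G), Cfg S A → Clean A →
    (∃ b L, b ∈ A ∧ b ≠ 1 ∧ CMet A b L) → (∃ Ps, Decomp A Ps) ∨ SmallTop S A

/-- Three or more blocks are impossible. -/
def ManyBlocksStep : Prop :=
  ∀ (G : Type u) [Group G] [Finite G] (S : Sylow 2 G) (A : Subgroup G) (Ps : Set (Subgroup G)),
    Cfg S A → Clean A → Decomp A Ps → False

/-- A spread is impossible. -/
def SmallTopStep : Prop :=
  ∀ (G : Type u) [Group G] [Finite G] (S : Sylow 2 G) (A : Subgroup G),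
    Cfg S A → Clean A → SmallTop S A → False

/-- Without met components `|A| ≥ 8` is impossible. -/
def NoMetStep : Prop :=
  ∀ (G : Type u) [Group G] [Finite G] (S : Sylow 2 G) (A : Subgroup G), Cfg S A → 8 ≤ Nat.card A →
    (∀ b ∈ A, b ≠ 1 → ∀ L : Subgroup (Bb b), ¬ CMet A b L) → False

/-- `|A| ≤ 4` is impossible. -/
def RankTwoStep : Prop :=
  ∀ (G : Type u) [Group G] [Finite G] (S : Sylow 2 G) (A : Subgroup G),
    Cfg S A → Nat.card A ≤ 4 → False

end Cfsg.Agent.H77.WA
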