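import Cfsg.Agent.H77.WA.RankTwoDefs

/-!
# The case `|C_S(e)| = 16`: statements

`notes/helper77_WA_ranktwo.md`, FourCentStep (a), (b), (c).
-/

set_option autoImplicit false

namespace Cfsg.Agent.H77.WA

open Subgroup Cfsg.Agent

universe u

variable {G : Type u} [Group G]

/-- The frame of `FourCent`. -/
structure FourFrame (A T : Subgroup G) : Prop where
  elem : Cfsg.IsElementaryAbelian 2 T
  le : A ≤ T
  le_cent : T ≤ centralizer (A : Set G)
  card : Nat.card T = 16
  small : ∀ t ∈ T, Toral A t → ∀ P : Subgroup G, IsPGroup 2 P → P ≤ centTwo A t → Nat.card P ≤ 16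
  all_toral : ∀ t ∈ T, t ∉ A → Toral A t
  transl : ∀ t ∈ T, ∀ a ∈ A, t ∉ A →
    ∃ n ∈ centralizer (A : Set G) ⊓ normalizer (T : Set G),
      (∀ s ∈ T, Commute n s → s ∈ A ∨ a = 1) ∧ n * t * n⁻¹ = t * a

/-- The centraliser of `A` modulo its core. -/
structure FourShape (A T P : Subgroup G) : Prop where
  two : IsPGroup 2 P
  card : Nat.card P = 64
  T_le : T ≤ P
  le_cent : P ≤ centralizer (A : Set G)
  le_norm : P ≤ normalizer (T : Set G)
  fix : ∀ t ∈ T, t ∉ A → P ⊓ centralizer ({t} : Set G) = T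
  normal : centralizer (A : Set G) ≤
    normalizer ((Cfsg.centralizerSubgroupPPrimeCore 2 A ⊔ P : Subgroup G) : Set G)
  self : ∀ x ∈ centralizer (A : Set G),
    (∀ p ∈ P, x * p * x⁻¹ * p⁻¹ ∈ Cfsg.centralizerSubgroupPPrimeCore 2 A) →
      x ∈ Cfsg.centralizerSubgroupPPrimeCore 2 A ⊔ P
  cover : centralizer (A : Set G) ≤
    Cfsg.centralizerSubgroupPPrimeCore 2 A ⊔ (centralizer (A : Set G) ⊓ normalizer (T : Set G))

/-- (a): the Sylow 2-subgroup has order 64. -/
def FourShapeStep : Prop :=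
  ∀ (G : Type u) [Group G] [Finite G] (S : Sylow 2 G) (A : Subgroup G), TwoCfg S A →
    AllToral A → FourCent A → ∃ T P : Subgroup G, FourFrame A T ∧ FourShape A T P

/-- (b): the cores are small. -/
def FourBalanceStep : Prop :=
  ∀ (G : Type u) [Group G] [Finite G] (S : Sylow 2 G) (A T P : Subgroup G), TwoCfg S A →
    FourFrame A T → FourShape A T P →
      (∀ E : Subgroup G, E ≤ T → 8 ≤ Nat.card E → Cfsg.signalizerDelta 2 E = ⊥) ∧
      ∀ B : Subgroup G, B ≤ T → 4 ≤ Nat.card B →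
        Cfsg.signalizerDelta 2 B ≤ Cfsg.centralizerSubgroupPPrimeCore 2 T

/-- (c): the tori give an element of order 4 in a component. -/
def FourModuleStep : Prop :=
  ∀ (G : Type u) [Group G] [Finite G] (S : Sylow 2 G) (A T P : Subgroup G), TwoCfg S A →
    FourFrame A T → FourShape A T P →
    (∀ E : Subgroup G, E ≤ T → 8 ≤ Nat.card E → Cfsg.signalizerDelta 2 E = ⊥) →
    (∀ B : Subgroup G, B ≤ T → 4 ≤ Nat.card B →
      Cfsg.signalizerDelta 2 B ≤ Cfsg.centralizerSubgroupPPrimeCore 2 T) → False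

theorem fourCentStep_of (ha : FourShapeStep.{u}) (hb : FourBalanceStep.{u})
    (hc : FourModuleStep.{u}) : FourCentStep.{u} := by
  intro G _ _ S A h2 hall h4
  obtain ⟨T, P, hT, hP⟩ := ha G S A h2 hall h4
  obtain ⟨h8, hB⟩ := hb G S A T P h2 hT hP
  exact hc G S A T P h2 hT hP h8 hB

end Cfsg.Agent.H77.WA
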