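import Cfsg.Agent.H77.WA.Defs

/-!
# Strongly closed abelian 2-subgroups: the statements for `|A| = 4`

`notes/helper77_WA_ranktwo.md` has the proofs.
-/

set_option autoImplicit false

namespace Cfsg.Agent.H77.WA

open Subgroup Cfsg.Agent
open Cfsg.Agent.H88.Walter (Bb pre cen vp qp core)
open Cfsg.Agent.H21.Walter (coreImage)
open Cfsg.Agent.H10.Walter (AbSyl)

universe u

variable {G : Type u} [Group G]

/-- The facts at the start of the case `|A| = 4`. -/
structure TwoCfg [Finite G] (S : Sylow 2 G) (A : Subgroup G) : Prop where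
  cfg : Cfg S A
  card : Nat.card A = 4
  cent : (S : Subgroup G) ≤ centralizer (A : Set G)
  two_cent : ∀ x ∈ normalizer (A : Set G), (∃ k : ℕ, x ^ 2 ^ k = 1) → x ∈ centralizer (A : Set G)
  cover : ∀ a ∈ A, a ≠ 1 → centralizer ({a} : Set G) ≤ core a ⊔ centralizer (A : Set G)
  core_fix : ∀ a ∈ A, a ≠ 1 →
    core a ⊓ centralizer (A : Set G) = Cfsg.centralizerSubgroupPPrimeCore 2 A

/-- An involution of `C(A)` outside `A`. -/
def Outer (A : Subgroup G) (e : G) : Prop :=
  e ∈ centralizer (A : Set G) ∧ orderOf e = 2 ∧ e ∉ A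

/-- `C(y)` has a met component with abelian Sylow 2-subgroups in which the centraliser of some
involution of the image of `A` does not centralise that image. -/
def Toral (A : Subgroup G) (y : G) : Prop :=
  Outer A y ∧ ∃ L : Subgroup (Bb y), CMet A y L ∧ center ↥L = ⊥ ∧ AbSyl (Quot L) ∧
    ∃ v u : Bb y, v ∈ coreImage y A ∧ v ∈ L ∧ v ≠ 1 ∧ u ∈ L ∧ Commute u v ∧
      u ∉ centralizer (coreImage y A : Set (Bb y))

/-- Every coset of `A` holding an outer involution holds a toral one. -/
def AllToral (A : Subgroup G) : Prop :=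
  ∀ e : G, Outer A e → ∃ a ∈ A, Toral A (e * a)

/-- `C(A) ∩ C(y)`. -/
def centTwo (A : Subgroup G) (y : G) : Subgroup G :=
  centralizer (A : Set G) ⊓ centralizer ({y} : Set G)

/-- The case `|C_S(e)| = 8`. -/
structure SmallCent (A : Subgroup G) : Prop where
  exists_outer : ∃ e : G, Outer A e
  small : ∀ e : G, Outer A e → ∀ P : Subgroup G, IsPGroup 2 P → P ≤ centTwo A e → Nat.card P ≤ 8
  fpf : ∀ e : G, Outer A e → ∃ h ∈ normalizer (A : Set G) ⊓ centralizer ({e} : Set G),
    ∀ a ∈ A, a ≠ 1 → h * a * h⁻¹ ≠ a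

/-- The case `|C_S(e)| = 16`. -/
structure FourCent (A : Subgroup G) : Prop where
  exists_frame : ∃ T : Subgroup G, Cfsg.IsElementaryAbelian 2 T ∧ A ≤ T ∧ Nat.card T = 16 ∧
    (∀ t ∈ T, Toral A t → ∀ P : Subgroup G, IsPGroup 2 P → P ≤ centTwo A t → Nat.card P ≤ 16) ∧
    ∃ n ∈ centralizer (A : Set G) ⊓ normalizer (T : Set G),
      (∀ t ∈ T, Commute n t → t ∈ A) ∧ ∀ t ∈ T, n * t * n⁻¹ * t⁻¹ ∈ A

/-- An outer involution without a toral one in its coset gives a signalizer functor on `A × ⟨e⟩`. -/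
def GoodStep : Prop :=
  ∀ (G : Type u) [Group G] [Finite G] (S : Sylow 2 G) (A : Subgroup G), TwoCfg S A →
    (∃ e, Outer A e ∧ ∀ a ∈ A, ¬ Toral A (e * a)) → False

/-- If all are toral the centralisers are small. -/
def TorusStep : Prop :=
  ∀ (G : Type u) [Group G] [Finite G] (S : Sylow 2 G) (A : Subgroup G), TwoCfg S A →
    AllToral A → (∃ e, Outer A e) → SmallCent A ∨ FourCent A

/-- Transfer. -/
def SmallCentStep : Prop :=
  ∀ (G : Type u) [Group G] [Finite G] (S : Sylow 2 G) (A : Subgroup G), TwoCfg S A →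
    SmallCent A → False

/-- Three complements cannot share their tori. -/
def FourCentStep : Prop :=
  ∀ (G : Type u) [Group G] [Finite G] (S : Sylow 2 G) (A : Subgroup G), TwoCfg S A →
    AllToral A → FourCent A → False

end Cfsg.Agent.H77.WA
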