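import Cfsg.Agent.H18.WA.Singer
import Cfsg.Agent.H18.WA.Twist
import Cfsg.Agent.H82.WA.Top
import Cfsg.Agent.H82.WA.SmallTop
import Cfsg.Agent.H62.WA.NoMet
import Cfsg.Agent.H62.WA.Good
import Cfsg.Agent.H1.WA.Torus
import Cfsg.Agent.H8.WA.SmallCent
import Cfsg.Agent.H21.WA.Link
import Cfsg.Agent.H21.WA.FourBalance
import Cfsg.Agent.H50.WA.TypeFacts
import Cfsg.Agent.H48.WA.RankTwo
import Cfsg.Agent.H48.WA.Reduce
import Cfsg.Agent.H48.WA.FourModule
import Cfsg.Agent.H48.WA.Struct
import Cfsg.Agent.H62.WA.FourShape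
import Cfsg.Agent.H88.WA.Blocks
import Cfsg.Agent.H77.WA.FourCentDefs

/-!
# Goldschmidt's theorem on strongly closed abelian 2-subgroups: assembly
-/

set_option autoImplicit false

namespace Cfsg.Agent.H77.WA

universe u

/-- The theorem from the characterisation of `U₃(4)` by its Sylow 2-subgroup. -/
theorem goldschmidt_of_uThreeFour (h486 : H48.WA.UThreeFourHyp.{u}) :
    H48.WA.GoldschmidtStatement.{u} := by
  have htf := H50.WA.typeFacts.{u}
  have hsf := H18.WA.singerFacts.{u}
  have hbar := H48.WA.barStruct.{u}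
  have hconj := H48.WA.conjFacts.{u}
  have hlink := H21.WA.linkFacts.{u} htf hbar
  exact H48.WA.goldschmidt_of_steps (H18.WA.twistStep htf hsf hbar hconj hlink)
    (H82.WA.topStep htf hsf hbar hconj hlink) (H88.WA.manyBlocksStep htf hbar hconj hlink)
    (H82.WA.smallTopStep htf hbar hconj hlink)
    (H62.WA.noMetStep hbar)
    (H48.WA.rankTwoStep_of hbar h486 (H62.WA.goodStep htf hbar) (H1.WA.torusStep htf hbar)
      H8.WA.smallCentStep
      (fourCentStep_of (H62.WA.fourShapeStep htf hbar) (H21.WA.fourBalanceStep hbar)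
        (H48.WA.fourModuleStep htf hbar)))

end Cfsg.Agent.H77.WA
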